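import Groth.Agent.DimInequality.Scheme
import Groth.Agent.GeomUnib.JacobsonDim

/-! The dimension formula for dominant morphisms of irreducible schemes over universally catenary points. -/

set_option autoImplicit false
set_option backward.isDefEq.respectTransparency.types false

universe u

open CategoryTheory AlgebraicGeometry TopologicalSpace

namespace Groth.Agent.DimFormulaIrr

open Groth.Agent.DimFun Groth.Agent.DimInequality

/-- Modulo the least prime heights do not change. -/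
theorem height_map_eq {R : Type u} [CommRing R] [IsNoetherianRing R] (P Q : Ideal R) [P.IsPrime] [Q.IsPrime]
    [(Q.map (Ideal.Quotient.mk P)).IsPrime] (h : ∀ a : PrimeSpectrum R, P ≤ a.asIdeal) :
    (Q.map (Ideal.Quotient.mk P)).height = Q.height := by
  refine le_antisymm (le_trans le_add_self (DimInequality.height_add_height_map_le P Q (h ⟨Q, inferInstance⟩))) ?_
  obtain ⟨l, hl, hlen⟩ := Ideal.exists_ltSeries_length_eq_height Q
  rw [← hlen]
  let c : Fin (l.length + 1) → PrimeSpectrum (R ⧸ P) := fun i => ⟨_, map_isPrime (h (l i))⟩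
  have hc : StrictMono c := fun i j hij => by
    have h1 : (l i).asIdeal < (l j).asIdeal := l.strictMono hij
    refine lt_of_le_of_ne (Ideal.map_mono h1.le) fun e => h1.ne ?_
    rw [← comap_map_mk (h (l i)), ← comap_map_mk (h (l j))]
    exact congrArg (fun a => a.asIdeal.comap (Ideal.Quotient.mk P)) e
  have := Order.length_le_height (p := LTSeries.mk l.length c hc)
    (x := (⟨Q.map (Ideal.Quotient.mk P), inferInstance⟩ : PrimeSpectrum (R ⧸ P))) (by
      show (l.last).asIdeal.map _ ≤ Q.map _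
      rw [hl])
  rwa [← PrimeSpectrum.height_eq_orderHeight] at this

theorem stalk_dimension_equality {X S : Scheme.{u}} [IsLocallyNoetherian S] [IrreducibleSpace X] [IrreducibleSpace S]
    (f : X ⟶ S) [LocallyOfFiniteType f] (hdom : f (genericPoint X) = genericPoint S) (y : X) (n E : ℕ)
    (hcat : CAlg.IsUniversallyCatenary (S.presheaf.stalk (f y)))
    (hey : letI := (f.residueFieldMap y).hom.toAlgebra
      Algebra.trdeg (S.residueField (f y)) (X.residueField y) = n)
    (hE : letI := (f.residueFieldMap (genericPoint X)).hom.toAlgebra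
      Algebra.trdeg (S.residueField (f (genericPoint X))) (X.residueField (genericPoint X)) = E) :
    ringKrullDim (X.presheaf.stalk y) + n = ringKrullDim (S.presheaf.stalk (f y)) + E := by
  obtain ⟨U, hU, hyU, -⟩ := exists_isAffineOpen_mem_and_subset (X := S) (x := f y) (U := ⊤) trivial
  obtain ⟨V, hV, hyV, hVU⟩ := exists_isAffineOpen_mem_and_subset (X := X) (x := y) (U := f ⁻¹ᵁ U) hyU
  let _ := (f.appLE U V hVU).hom.toAlgebra
  have : Algebra.FiniteType Γ(S, U) Γ(X, V) := RingHom.finiteType_algebraMap.1 (f.finiteType_appLE hU hV hVU)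
  have : IsNoetherianRing Γ(S, U) := IsLocallyNoetherian.component_noetherian ⟨U, hU⟩
  have : IsNoetherianRing Γ(X, V) := Algebra.FiniteType.isNoetherianRing Γ(S, U) Γ(X, V)
  set q := hV.primeIdealOf ⟨y, hyV⟩ with hq
  have hqy : hV.fromSpec q = y := hV.fromSpec_primeIdealOf _
  obtain ⟨x, hx⟩ : ∃ x, genericPoint X = x := ⟨_, rfl⟩
  rw [hx] at hdom
  have hgen : ∀ z : X, x ⤳ z := fun z => hx ▸ genericPoint_specializes z
  have hxV : x ∈ V := (hgen y).mem_open V.2 hyV
  set q₀ := hV.primeIdealOf ⟨x, hxV⟩ with hq₀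
  have hq₀x : hV.fromSpec q₀ = x := hV.fromSpec_primeIdealOf _
  have hq₀min : ∀ a : PrimeSpectrum Γ(X, V), q₀.asIdeal ≤ a.asIdeal := fun a =>
    (fromSpec_specializes_iff hV q₀ a).1 (by rw [hq₀x]; exact hgen _)
  have hle : q₀.asIdeal ≤ q.asIdeal := hq₀min q
  have := map_isPrime hle
  have : Algebra.FiniteType Γ(S, U) (Γ(X, V) ⧸ q₀.asIdeal) :=
    Algebra.FiniteType.of_surjective (Ideal.Quotient.mkₐ Γ(S, U) q₀.asIdeal) Ideal.Quotient.mk_surjective
  have : Algebra.FiniteType (Γ(S, U) ⧸ q₀.asIdeal.under Γ(S, U)) (Γ(X, V) ⧸ q₀.asIdeal) :=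
    Algebra.FiniteType.of_restrictScalars_finiteType Γ(S, U) _ _
  have hinj : FaithfulSMul (Γ(S, U) ⧸ q₀.asIdeal.under Γ(S, U)) (Γ(X, V) ⧸ q₀.asIdeal) :=
    (faithfulSMul_iff_algebraMap_injective _ _).2 (Ideal.quotientMap_injective' le_rfl)
  set q₁ := q.asIdeal.map (Ideal.Quotient.mk q₀.asIdeal) with hq₁
  let p : PrimeSpectrum Γ(S, U) := PrimeSpectrum.comap (algebraMap Γ(S, U) Γ(X, V)) q
  have hp : p = hU.primeIdealOf ⟨f y, hyU⟩ := by
    apply hU.fromSpec.isOpenEmbedding.injective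
    rw [hU.fromSpec_primeIdealOf]
    show _ = f y
    refine Eq.trans ?_ (congrArg f hqy)
    refine Eq.trans ?_ (Scheme.Hom.comp_apply hV.fromSpec f _)
    erw [← IsAffineOpen.SpecMap_appLE_fromSpec f hU hV hVU, Scheme.Hom.comp_apply]
  have hpq₀ : q₀.asIdeal.under Γ(S, U) ≤ p.asIdeal := Ideal.comap_mono hle
  have := map_isPrime hpq₀
  have hp₁c : (q₁.under (Γ(S, U) ⧸ q₀.asIdeal.under Γ(S, U))).comap
      (Ideal.Quotient.mk (q₀.asIdeal.under Γ(S, U))) = p.asIdeal := by
    show _ = q.asIdeal.comap (algebraMap Γ(S, U) Γ(X, V))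
    rw [← comap_map_mk hle, Ideal.comap_comap, Ideal.comap_comap]
    rfl
  have hpy : hU.fromSpec p = f y := by rw [hp, hU.fromSpec_primeIdealOf]
  obtain ⟨hq', hp', b, e, h1, h2, hb, he, hsum⟩ := GeomUnib.height_formula (R := Γ(S, U) ⧸ q₀.asIdeal.under Γ(S, U)) q₁
    (GeomUnib.isUniversallyCatenary_localization hU p (by rw [hpy]; exact hcat) _ _ hp₁c)
  let _ := (f.residueFieldMap x).hom.toAlgebra
  obtain ⟨ex, hex, hexE⟩ : ∃ ex : ℕ, Algebra.trdeg (S.residueField (f x)) (X.residueField x) = ex ∧ ex = E := by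
    subst hx; exact ⟨E, hE, rfl⟩
  -- the generic transcendence degree
  let _ := (f.residueFieldMap x).hom.toAlgebra
  have hxe : ex = e := by
    have h := trdeg_eq_of_fractions (R := Γ(S, U) ⧸ q₀.asIdeal.under Γ(S, U)) (D := Γ(X, V) ⧸ q₀.asIdeal)
      (Ideal.Quotient.lift _ (evalRes (X := S) (V := U) (hVU hxV)) fun a ha => by
        refine (f.residueFieldMap x).hom.injective ?_
        rw [map_zero, ← evalRes_comm f hVU hxV, evalRes_eq_zero_iff hV hxV]
        exact ha)
      (Ideal.Quotient.lift _ (evalRes hxV) fun a ha => (evalRes_eq_zero_iff hV hxV a).2 ha)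
      ((injective_iff_map_eq_zero _).2 fun a ha => by
        obtain ⟨a, rfl⟩ := Ideal.Quotient.mk_surjective a
        exact Ideal.Quotient.eq_zero_iff_mem.2 ((evalRes_eq_zero_iff hV hxV a).1 ha))
      (fun a => by
        obtain ⟨a, rfl⟩ := Ideal.Quotient.mk_surjective a
        exact evalRes_comm f hVU hxV a)
      (fun z => by
        obtain ⟨a, b, rfl⟩ := evalRes_fractions hU (hVU hxV) z
        exact ⟨Ideal.Quotient.mk _ a, Ideal.Quotient.mk _ b, rfl⟩)
      (fun z => by
        obtain ⟨a, b, rfl⟩ := evalRes_fractions hV hxV z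
        exact ⟨Ideal.Quotient.mk _ a, Ideal.Quotient.mk _ b, rfl⟩)
    exact_mod_cast hex.symm.trans (h.trans he)
  have hyb : n = b := by
    let _ := (f.residueFieldMap y).hom.toAlgebra
    let p₁ := q₁.under (Γ(S, U) ⧸ q₀.asIdeal.under Γ(S, U))
    let rB : Γ(X, V) ⧸ q₀.asIdeal →+* X.residueField y :=
      Ideal.Quotient.lift _ (evalRes hyV) fun a ha => (evalRes_eq_zero_iff hV hyV a).2 (hle ha)
    have hker : ∀ a, rB a = 0 ↔ a ∈ q₁ := fun a => by
      obtain ⟨a, rfl⟩ := Ideal.Quotient.mk_surjective a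
      rw [show rB (Ideal.Quotient.mk _ a) = evalRes hyV a from rfl, evalRes_eq_zero_iff hV hyV, ← hq,
        ← Ideal.mem_comap, comap_map_mk hle]
    let rA : Γ(S, U) ⧸ q₀.asIdeal.under Γ(S, U) →+* S.residueField (f y) :=
      Ideal.Quotient.lift _ (evalRes (X := S) (V := U) (hVU hyV)) fun a ha => by
        refine (f.residueFieldMap y).hom.injective ?_
        rw [map_zero, ← evalRes_comm f hVU hyV, evalRes_eq_zero_iff hV hyV]
        exact hle ha
    have hcomm : ∀ a, rB (algebraMap _ _ a) = (f.residueFieldMap y).hom (rA a) := fun a => by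
      obtain ⟨a, rfl⟩ := Ideal.Quotient.mk_surjective a
      exact evalRes_comm f hVU hyV a
    have : FaithfulSMul ((Γ(S, U) ⧸ q₀.asIdeal.under Γ(S, U)) ⧸ p₁) ((Γ(X, V) ⧸ q₀.asIdeal) ⧸ q₁) :=
      (faithfulSMul_iff_algebraMap_injective _ _).2 (Ideal.quotientMap_injective' le_rfl)
    have h := trdeg_eq_of_fractions (R := (Γ(S, U) ⧸ q₀.asIdeal.under Γ(S, U)) ⧸ p₁) (D := (Γ(X, V) ⧸ q₀.asIdeal) ⧸ q₁)
      (Ideal.Quotient.lift _ rA fun a ha => by
        refine (f.residueFieldMap y).hom.injective ?_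
        rw [map_zero, ← hcomm, hker]
        exact ha)
      (Ideal.Quotient.lift _ rB fun a ha => (hker a).2 ha)
      ((injective_iff_map_eq_zero _).2 fun a ha => by
        obtain ⟨a, rfl⟩ := Ideal.Quotient.mk_surjective a
        exact Ideal.Quotient.eq_zero_iff_mem.2 ((hker a).1 ha))
      (fun a => by
        obtain ⟨a, rfl⟩ := Ideal.Quotient.mk_surjective a
        exact hcomm a)
      (fun z => by
        obtain ⟨a, b, rfl⟩ := evalRes_fractions hU (hVU hyV) z
        exact ⟨Ideal.Quotient.mk _ (Ideal.Quotient.mk _ a), Ideal.Quotient.mk _ (Ideal.Quotient.mk _ b), rfl⟩)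
      (fun z => by
        obtain ⟨a, b, rfl⟩ := evalRes_fractions hV hyV z
        exact ⟨Ideal.Quotient.mk _ (Ideal.Quotient.mk _ a), Ideal.Quotient.mk _ (Ideal.Quotient.mk _ b), rfl⟩)
    exact_mod_cast hey.symm.trans (h.trans hb)
  -- compare heights
  have hp₁ : q₁.under (Γ(S, U) ⧸ q₀.asIdeal.under Γ(S, U)) = p.asIdeal.map (Ideal.Quotient.mk (q₀.asIdeal.under Γ(S, U))) := by
    rw [← hp₁c]
    exact (Ideal.map_comap_of_surjective _ Ideal.Quotient.mk_surjective _).symm
  let p₀ : PrimeSpectrum Γ(S, U) := PrimeSpectrum.comap (algebraMap Γ(S, U) Γ(X, V)) q₀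
  have hp₀η : hU.fromSpec p₀ = genericPoint S := by
    rw [← hdom]
    refine Eq.trans ?_ (congrArg f hq₀x)
    refine Eq.trans ?_ (Scheme.Hom.comp_apply hV.fromSpec f _)
    erw [← IsAffineOpen.SpecMap_appLE_fromSpec f hU hV hVU, Scheme.Hom.comp_apply]
  have hp₀min : ∀ a : PrimeSpectrum Γ(S, U), q₀.asIdeal.under Γ(S, U) ≤ a.asIdeal := fun a =>
    (fromSpec_specializes_iff hU p₀ a).1 (by rw [hp₀η]; exact genericPoint_specializes _)
  have hhp : p.asIdeal.height = hp' := by
    rw [← height_map_eq _ p.asIdeal hp₀min, ← h2, hp₁]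
  have hhq : q.asIdeal.height = hq' := by
    rw [← height_map_eq _ q.asIdeal hq₀min, ← h1]
  letI := TopCat.Presheaf.algebra_section_stalk X.presheaf ⟨y, hyV⟩
  haveI := hV.isLocalization_stalk ⟨y, hyV⟩
  letI := TopCat.Presheaf.algebra_section_stalk S.presheaf ⟨f y, hyU⟩
  haveI := hU.isLocalization_stalk ⟨f y, hyU⟩
  rw [IsLocalization.AtPrime.ringKrullDim_eq_height (hV.primeIdealOf ⟨y, hyV⟩).asIdeal (X.presheaf.stalk y),
    IsLocalization.AtPrime.ringKrullDim_eq_height (hU.primeIdealOf ⟨f y, hyU⟩).asIdeal (S.presheaf.stalk (f y)),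
    ← hq, ← hp]
  rw [hhp, hhq]
  have : hq' + n = hp' + E := by omega
  exact_mod_cast this

end Groth.Agent.DimFormulaIrr
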