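import Groth.Agent.DimFormulaIrr.Basic
import Groth.Agent.DimFormulaIrr.Equality
import Groth.Agent.LocalDim.Point

/-! Dimensions along dominant morphisms of irreducible schemes. -/

universe u

open CategoryTheory CategoryTheory.Limits AlgebraicGeometry TopologicalSpace

namespace Groth.Agent.DimFormulaIrr

variable {X Y : Scheme.{u}} (f : X ⟶ Y)

theorem dim_le_add [IsLocallyNoetherian Y] [LocallyOfFiniteType f] (E : ℕ)
    (hE : ∀ ξ : X, closure {ξ} ∈ irreducibleComponents ↥X →
      letI := (f.residueFieldMap ξ).hom.toAlgebra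
      Algebra.trdeg (Y.residueField (f ξ)) (X.residueField ξ) ≤ E) :
    topologicalKrullDim ↥X ≤ topologicalKrullDim ↥Y + E := by
  rw [topologicalKrullDim_eq_iSup X]
  refine iSup_le fun x => ?_
  obtain ⟨n, hn, -⟩ := exists_trdeg_fibre f (f x) (f.asFiber x) x (f.fiberι_asFiber x)
  refine le_trans (le_add_of_nonneg_right (b := (n : WithBot ℕ∞)) (Nat.cast_nonneg n))
    ((DimInequality.stalk_dimension_inequality f x n E hn fun ξ h _ => hE ξ h).trans (add_le_add ?_ le_rfl))
  rw [topologicalKrullDim_eq_iSup Y]
  exact le_iSup (fun y => ringKrullDim (Y.presheaf.stalk y)) (f x)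

theorem map_genericPoint [IrreducibleSpace X] [IrreducibleSpace Y] (hf : DenseRange f.base) :
    f (genericPoint X) = genericPoint Y := by
  refine IsGenericPoint.eq ?_ (genericPoint_spec Y)
  have h := (genericPoint_spec X).image f.continuous
  rwa [Set.image_univ, hf.closure_range] at h

theorem eq_of_component [IrreducibleSpace X] {ξ : X} (h : closure {ξ} ∈ irreducibleComponents ↥X) :
    ξ = genericPoint X := by
  refine IsGenericPoint.eq ?_ (genericPoint_spec X)
  exact Set.eq_univ_of_univ_subset (h.2 (IrreducibleSpace.isIrreducible_univ X) (Set.subset_univ _))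

theorem closure_fibre_generic [IrreducibleSpace X] (y : Y) (z : ↑(f.fiber y)) (hz : f.fiberι y z = genericPoint X) :
    closure ({z} : Set ↑(f.fiber y)) = Set.univ := Set.eq_univ_of_forall fun w =>
  specializes_iff_mem_closure.mp ((f.fiberι y).isEmbedding.isInducing.specializes_iff.mp
    (by rw [hz]; exact genericPoint_specializes _))

/-- The generic fibre of an irreducible scheme and the generic residue degree. -/
theorem exists_trdeg_generic [LocallyOfFiniteType f] [IrreducibleSpace X] :
    ∃ n : ℕ, (letI := (f.residueFieldMap (genericPoint X)).hom.toAlgebra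
      Algebra.trdeg (Y.residueField (f (genericPoint X))) (X.residueField (genericPoint X))) = n ∧
      topologicalKrullDim ↑(f.fiber (f (genericPoint X))) = n := by
  obtain ⟨n, hn, hn'⟩ := exists_trdeg_fibre f _ (f.asFiber (genericPoint X)) _ (f.fiberι_asFiber _)
  rw [closure_fibre_generic f _ _ (f.fiberι_asFiber _)] at hn'
  exact ⟨n, hn, (FibreDim.dim_homeo (Homeomorph.Set.univ _)).symm.trans hn'⟩

attribute [local instance] specializationOrder in
theorem add_le_dim_of_isClosedMap [LocallyOfFiniteType f] [IrreducibleSpace X] [IrreducibleSpace Y]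
    (hdom : f (genericPoint X) = genericPoint Y) (hcl : IsClosedMap f.base) (n : ℕ)
    (hn : topologicalKrullDim ↑(f.fiber (f (genericPoint X))) = n) :
    topologicalKrullDim ↥Y + n ≤ topologicalKrullDim ↥X := by
  let y₀ := f (genericPoint X)
  let F := f.fiber y₀
  let q : F ⟶ Spec (CommRingCat.of (Y.residueField y₀)) := f.fiberToSpecResidueField y₀
  haveI : LocallyOfFiniteType q := MorphismProperty.of_isPullback (P := @LocallyOfFiniteType)
      (IsPullback.of_hasPullback f (Y.fromSpecResidueField y₀)) inferInstance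
  letI : F.Over (Spec (CommRingCat.of (Y.residueField y₀))) := ⟨q⟩
  haveI : LocallyOfFiniteType (F ↘ Spec (CommRingCat.of (Y.residueField y₀))) := ‹LocallyOfFiniteType q›
  haveI : JacobsonSpace ↥F := LocallyOfFiniteType.jacobsonSpace q
  obtain ⟨z, -, hz⟩ := nonempty_inter_closedPoints (X := ↥F) (Z := Set.univ)
    ⟨f.asFiber (genericPoint X), trivial⟩ isOpen_univ.isLocallyClosed
  have hzn : (n : ℕ∞) ≤ Order.coheight z := by
    obtain ⟨m, hm, ⟨η, -, hη, hηm⟩, -⟩ := LocalDim.exists_localDim q z
    have : η = f.asFiber (genericPoint X) := (hη _ (specializes_iff_mem_closure.mpr (by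
      rw [closure_fibre_generic f y₀ _ (f.fiberι_asFiber _)]; trivial))).symm
    subst this
    rw [closure_fibre_generic f y₀ _ (f.fiberι_asFiber _), FibreDim.dim_homeo (Homeomorph.Set.univ _), hn] at hηm
    obtain ⟨a, -, ha, ha0⟩ := LocalDim.exists_localDim_eq_stalk (Y.residueField y₀) F z
    rw [ha0 hz, Nat.cast_zero, add_zero, hm, ← hηm, ringKrullDim_stalk_eq_coheight] at ha
    exact WithBot.coe_le_coe.mp ha.le
  let w := f.fiberι y₀ z
  have hw : f w = genericPoint Y := ((f.range_fiberι y₀).le ⟨z, rfl⟩).trans hdom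
  have hwn : (n : ℕ∞) ≤ Order.coheight w := by
    refine hzn.trans (Order.coheight_le_coheight_apply_of_strictMono _ (fun a b hab => ?_) z)
    exact lt_of_le_of_ne (Specializes.map (show b ⤳ a from hab.le) (f.fiberι y₀).continuous)
      fun he => hab.ne ((f.fiberι y₀).isEmbedding.injective he)
  have hsp : SpecializingMap f.base := hcl.specializingMap
  have key : ∀ (m : ℕ) (y : Y), (m : ℕ∞) ≤ Order.coheight y → ∃ x : X, f x = y ∧ (n + m : ℕ∞) ≤ Order.coheight x := by
    intro m
    induction m with
    | zero =>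
      intro y _
      obtain ⟨x, hx, hxy⟩ := hsp (show f w ⤳ y from hw ▸ genericPoint_specializes y)
      exact ⟨x, hxy, by rw [Nat.cast_zero, add_zero]; exact hwn.trans (Order.coheight_anti (show x ≤ w from hx))⟩
    | succ m ih =>
      intro y hy
      obtain ⟨l, hl, hlen⟩ := Order.exists_series_of_le_coheight y hy
      let i : Fin (l.length + 1) := ⟨1, by omega⟩
      have hlt : y < l i := by
        rw [← hl]; exact l.strictMono (show (0 : Fin (l.length + 1)) < i from by simp [i, Fin.lt_def])
      have hy' : (m : ℕ∞) ≤ Order.coheight (l i) := by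
        have h := Order.length_le_coheight (p := l.drop i) (x := l i) (le_of_eq (RelSeries.head_drop _ _).symm)
        refine le_trans (le_of_eq ?_) h
        simp [RelSeries.drop, i, hlen]
      obtain ⟨x', hx', hcx'⟩ := ih (l i) hy'
      obtain ⟨x, hx, hxy⟩ := hsp (show f x' ⤳ y from hx'.symm ▸ (hlt.le : l i ⤳ y))
      refine ⟨x, hxy, ?_⟩
      have hxlt : x < x' := lt_of_le_of_ne (show x' ⤳ x from hx) fun he => hlt.ne (by rw [← hxy, ← hx', he])
      refine le_trans ?_ (Order.coheight_add_one_le hxlt)
      push_cast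
      rw [← add_assoc]
      exact add_le_add hcx' le_rfl
  have hY : topologicalKrullDim ↥Y = ((⨆ y : Y, Order.coheight y : ℕ∞) : WithBot ℕ∞) := by
    rw [topologicalKrullDim, Order.krullDim_eq_of_orderIso (irreducibleSetEquivPoints (α := ↥Y)),
      Order.krullDim_eq_iSup_coheight_of_nonempty]
  have hX : topologicalKrullDim ↥X = ((⨆ x : X, Order.coheight x : ℕ∞) : WithBot ℕ∞) := by
    rw [topologicalKrullDim, Order.krullDim_eq_of_orderIso (irreducibleSetEquivPoints (α := ↥X)),
      Order.krullDim_eq_iSup_coheight_of_nonempty]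
  rw [hY, hX]
  suffices (⨆ y : Y, Order.coheight y) + (n : ℕ∞) ≤ ⨆ x : X, Order.coheight x from by exact_mod_cast this
  rw [ENat.iSup_add]
  refine iSup_le fun y => ENat.forall_natCast_le_iff_le.mp fun a ha => ?_
  rcases le_or_gt a n with h | h
  · exact le_trans (ENat.natCast_le_natCast.mpr h) (hwn.trans (le_iSup (fun x : X => Order.coheight x) w))
  · obtain ⟨m, rfl⟩ := Nat.exists_eq_add_of_le h.le
    have hm : (m : ℕ∞) ≤ Order.coheight y := by
      rw [Nat.cast_add, add_comm] at ha
      exact (ENat.addLECancellable_of_ne_top (ENat.natCast_ne_top n)).add_le_add_iff_right.mp ha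
    obtain ⟨x, -, hx⟩ := key m y hm
    exact le_trans (le_trans (le_of_eq (by push_cast; rfl)) hx) (le_iSup (fun x : X => Order.coheight x) x)

theorem add_natCast_cancel {a b : WithBot ℕ∞} {n : ℕ} (h : a + n = b + n) : a = b := by
  cases a with
  | bot => cases b with
    | bot => rfl
    | coe b => exact absurd h.symm (by rw [WithBot.bot_add]; exact WithBot.coe_ne_bot)
  | coe a => cases b with
    | bot => exact absurd h (by rw [WithBot.bot_add]; exact WithBot.coe_ne_bot)
    | coe b =>
      have h' : a + (n : ℕ∞) = b + (n : ℕ∞) := by exact_mod_cast h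
      exact congrArg _ ((ENat.addLECancellable_of_ne_top (ENat.natCast_ne_top n)).inj_left.mp h')

theorem iSup_range_add {ι : Type u} [Nonempty ι] (a : ι → WithBot ℕ∞) (n : ℕ) (ha : ∀ i, a i ≠ ⊥) :
    ⨆ i, (a i + n) = (⨆ i, a i) + n := by
  choose b hb using fun i => WithBot.ne_bot_iff_exists.mp (ha i)
  obtain rfl : (fun i => ((b i : ℕ∞) : WithBot ℕ∞)) = a := funext hb
  have h1 : ∀ i, ((b i : ℕ∞) : WithBot ℕ∞) + (n : WithBot ℕ∞) = ((b i + n : ℕ∞) : WithBot ℕ∞) := fun i => by push_cast; rfl
  simp only [h1]
  rw [← WithBot.coe_iSup (OrderTop.bddAbove _), ← WithBot.coe_iSup (OrderTop.bddAbove _)]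
  norm_cast
  exact (ENat.iSup_add (fun i => b i)).symm

/-- Over universally catenary points the dimension is the dimension reached by the image plus that of
the generic fibre. -/
theorem dim_eq_add [IsLocallyNoetherian Y] [LocallyOfFiniteType f] [IrreducibleSpace X] [IrreducibleSpace Y]
    (hdom : f (genericPoint X) = genericPoint Y) (hcat : ∀ y : Y, CAlg.IsUniversallyCatenary (Y.presheaf.stalk y))
    (E : ℕ) (hE : letI := (f.residueFieldMap (genericPoint X)).hom.toAlgebra
      Algebra.trdeg (Y.residueField (f (genericPoint X))) (X.residueField (genericPoint X)) = E) :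
    topologicalKrullDim ↥X = (⨆ x : X, ringKrullDim (Y.presheaf.stalk (f x))) + E := by
  rw [topologicalKrullDim_eq_iSup X]
  rw [← iSup_range_add (fun x : X => ringKrullDim (Y.presheaf.stalk (f x))) E (fun x => ne_bot_of_le_ne_bot (by simp) ringKrullDim_nonneg_of_nontrivial)]
  refine le_antisymm (iSup_mono fun x => ?_) (iSup_le fun x => ?_)
  · obtain ⟨n, hn, -⟩ := exists_trdeg_fibre f (f x) (f.asFiber x) x (f.fiberι_asFiber x)
    exact (le_add_of_nonneg_right (Nat.cast_nonneg n)).trans
      (stalk_dimension_equality f hdom x n E (hcat _) hn hE).le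
  · obtain ⟨x', hx', h0⟩ := exists_trdeg_eq_zero f x
    have h := stalk_dimension_equality f hdom x' 0 E (hcat _) (by rw [h0, Nat.cast_zero]) hE
    rw [Nat.cast_zero, add_zero, hx'] at h
    exact h ▸ le_iSup (fun z : X => ringKrullDim (X.presheaf.stalk z)) x'

end Groth.Agent.DimFormulaIrr
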