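import Groth.Agent.DimInequality.Scheme
import Groth.Agent.FibDim.MaxPoints

/-! Dimension as supremum of local rings; residue degrees as dimensions inside fibres. -/

universe u

open CategoryTheory CategoryTheory.Limits AlgebraicGeometry TopologicalSpace

namespace Groth.Agent.DimFormulaIrr

attribute [local instance] specializationOrder in
theorem topologicalKrullDim_eq_iSup (X : Scheme.{u}) :
    topologicalKrullDim X = ⨆ x : X, ringKrullDim (X.presheaf.stalk x) := by
  rw [topologicalKrullDim, Order.krullDim_eq_of_orderIso (irreducibleSetEquivPoints (α := ↥X)),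
    Order.krullDim_eq_iSup_coheight]
  exact iSup_congr fun x => (ringKrullDim_stalk_eq_coheight x).symm

variable {X Y : Scheme.{u}} (f : X ⟶ Y) [LocallyOfFiniteType f]

/-- The residue degree of a point is the dimension of its closure inside the fibre. -/
theorem exists_trdeg_fibre (y : Y) (z : ↑(f.fiber y)) (x : X) (hx : f.fiberι y z = x) :
    ∃ n : ℕ, (letI := (f.residueFieldMap x).hom.toAlgebra
      Algebra.trdeg (Y.residueField (f x)) (X.residueField x)) = n ∧
      topologicalKrullDim (closure ({z} : Set ↑(f.fiber y))) = n := by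
  have hy : f x = y := by rw [← hx]; exact (f.range_fiberι y).le ⟨z, rfl⟩
  subst hy
  haveI : LocallyOfFiniteType (f.fiberToSpecResidueField (f x)) :=
    MorphismProperty.of_isPullback (P := @LocallyOfFiniteType)
      (IsPullback.of_hasPullback f (Y.fromSpecResidueField (f x))) inferInstance
  let ι := f.fiberι (f x)
  let e : X.residueField x ⟶ (f.fiber (f x)).residueField z :=
    (Scheme.residueFieldCongr hx.symm).hom ≫ ι.residueFieldMap z
  let ψ : CommRingCat.of (Y.residueField (f x)) ⟶ (f.fiber (f x)).residueField z := f.residueFieldMap x ≫ e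
  have hψ : Spec.map ψ = (f.fiber (f x)).fromSpecResidueField z ≫ f.fiberToSpecResidueField (f x) := by
    rw [← cancel_mono (Y.fromSpecResidueField (f x)), Category.assoc, ← f.fiber_fac]
    simp only [ψ, e, Spec.map_comp, Category.assoc, Scheme.Hom.SpecMap_residueFieldMap_fromSpecResidueField]
    rw [← Scheme.Hom.SpecMap_residueFieldMap_fromSpecResidueField_assoc ι z]
    congr 1
    rw [← Category.assoc]
    congr 1
    exact Scheme.residueFieldCongr_fromSpecResidueField hx.symm
  obtain ⟨n, hn, hn'⟩ := FibDim.exists_trdeg (k := Y.residueField (f x)) (f.fiberToSpecResidueField (f x)) z ψ hψ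
  refine ⟨n, ?_, hn'⟩
  letI := (f.residueFieldMap x).hom.toAlgebra
  letI := ψ.hom.toAlgebra
  haveI : IsIso (ι.residueFieldMap z) := by
    refine (ConcreteCategory.isIso_iff_bijective _).mpr ⟨RingHom.injective _, fun a => ?_⟩
    obtain ⟨a, rfl⟩ := (f.fiber (f x)).residue_surjective z a
    obtain ⟨a, rfl⟩ := ι.stalkMap_surjective z a
    exact ⟨X.residue _ a, congrArg (fun φ => φ.hom a) (Scheme.residue_residueFieldMap ι z)⟩
  haveI : IsIso e := inferInstanceAs (IsIso ((Scheme.residueFieldCongr hx.symm).hom ≫ ι.residueFieldMap z))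
  let e' : X.residueField x ≃ₐ[Y.residueField (f x)] (f.fiber (f x)).residueField z :=
    AlgEquiv.ofRingEquiv (f := (asIso e).commRingCatIsoToRingEquiv) fun c => rfl
  rw [← hn]
  exact AlgEquiv.trdeg_eq e'

/-- Every nonempty fibre has a point with algebraic residue extension. -/
theorem exists_trdeg_eq_zero (x : X) :
    ∃ x' : X, f x' = f x ∧ (letI := (f.residueFieldMap x').hom.toAlgebra
      Algebra.trdeg (Y.residueField (f x')) (X.residueField x')) = 0 := by
  haveI : JacobsonSpace ↑(f.fiber (f x)) := inferInstance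
  obtain ⟨z, -, hz⟩ := nonempty_inter_closedPoints (X := ↑(f.fiber (f x))) (Z := Set.univ)
    ⟨f.asFiber x, trivial⟩ isOpen_univ.isLocallyClosed
  refine ⟨f.fiberι (f x) z, (f.range_fiberι (f x)).le ⟨z, rfl⟩, ?_⟩
  obtain ⟨n, hn, hn'⟩ := exists_trdeg_fibre f (f x) z _ rfl
  rw [(mem_closedPoints_iff.mp hz).closure_eq] at hn'
  haveI : Subsingleton ↥({z} : Set ↑(f.fiber (f x))) := Set.subsingleton_singleton.coe_sort
  have h0 := topologicalKrullDim_zero_of_discreteTopology ↥({z} : Set ↑(f.fiber (f x)))
  rw [hn'] at h0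
  have : n = 0 := by
    have : (n : WithBot ℕ∞) ≤ 0 := le_of_eq_of_le rfl h0
    exact_mod_cast Nat.le_zero.mp (by exact_mod_cast this)
  rw [hn, this, Nat.cast_zero]

end Groth.Agent.DimFormulaIrr
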