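import Groth.Agent.DimFormulaIrr.Equality
import Groth.Agent.EquidimFlat.Basic
import Groth.Agent.DepthLib.Quotient

/-! The dimension formula along a component, over a universally catenary point. -/

set_option autoImplicit false
set_option backward.isDefEq.respectTransparency.types false

universe u

open CategoryTheory AlgebraicGeometry TopologicalSpace

namespace Groth.Agent.DimFormulaIrr

open Groth.Agent.DimFun Groth.Agent.DimInequality

theorem height_map_eq_dim_quotient {R : Type u} [CommRing R] [IsNoetherianRing R] (p : Ideal R) [p.IsPrime]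
    (L : Type u) [CommRing L] [Algebra R L] [IsLocalization.AtPrime L p] (J : Ideal L) [J.IsPrime]
    (I : Ideal R) (hI : J.under R = I) [(p.map (Ideal.Quotient.mk I)).IsPrime] :
    ((p.map (Ideal.Quotient.mk I)).height : WithBot ℕ∞) = ringKrullDim (L ⧸ J) := by
  subst hI
  have hle : J.under R ≤ p := le_of_le_of_eq (Ideal.comap_mono (IsLocalization.AtPrime.isLocalRing L p |>
    fun h => @IsLocalRing.le_maximalIdeal L _ h J (Ideal.IsPrime.ne_top inferInstance)))
    (IsLocalization.AtPrime.under_maximalIdeal L p)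
  refine (DepthLib.height_map_quotient_eq_supportDim (J.under R) p hle _ rfl).trans ?_
  let e : Localization.AtPrime p ≃ₐ[R] L := IsLocalization.algEquiv p.primeCompl _ _
  refine ringKrullDim_eq_of_ringEquiv (Ideal.quotientEquiv _ _ e.toRingEquiv ?_)
  rw [Ideal.map_map]
  have hc : (e.toRingEquiv : Localization.AtPrime p →+* L).comp (algebraMap R (Localization.AtPrime p)) = algebraMap R L :=
    RingHom.ext fun r => e.commutes r
  rw [hc]
  exact (IsLocalization.map_under p.primeCompl L J).symm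

theorem stalk_component_formula {X S : Scheme.{u}} [IsLocallyNoetherian S]
    (f : X ⟶ S) [LocallyOfFiniteType f] (y : X) (n : ℕ)
    (hcat : CAlg.IsUniversallyCatenary (S.presheaf.stalk (f y)))
    (hey : letI := (f.residueFieldMap y).hom.toAlgebra
      Algebra.trdeg (S.residueField (f y)) (X.residueField y) = n)
    (𝔭 : Ideal (X.presheaf.stalk y)) (h𝔭 : 𝔭 ∈ minimalPrimes (X.presheaf.stalk y)) :
    ∃ (ξ : X) (E : ℕ), FibDim.IsMax' ξ ∧ ξ ⤳ y ∧ FibreDim.fdim f ξ = E ∧
      ringKrullDim (X.presheaf.stalk y ⧸ 𝔭) + n =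
        ringKrullDim (S.presheaf.stalk (f y) ⧸ 𝔭.comap (f.stalkMap y).hom) + E := by
  obtain ⟨U, hU, hyU, -⟩ := exists_isAffineOpen_mem_and_subset (X := S) (x := f y) (U := ⊤) trivial
  obtain ⟨V, hV, hyV, hVU⟩ := exists_isAffineOpen_mem_and_subset (X := X) (x := y) (U := f ⁻¹ᵁ U) hyU
  let _ := (f.appLE U V hVU).hom.toAlgebra
  have : Algebra.FiniteType Γ(S, U) Γ(X, V) := RingHom.finiteType_algebraMap.1 (f.finiteType_appLE hU hV hVU)
  have : IsNoetherianRing Γ(S, U) := IsLocallyNoetherian.component_noetherian ⟨U, hU⟩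
  have : IsNoetherianRing Γ(X, V) := Algebra.FiniteType.isNoetherianRing Γ(S, U) Γ(X, V)
  set q := hV.primeIdealOf ⟨y, hyV⟩ with hq
  have hqy : hV.fromSpec q = y := hV.fromSpec_primeIdealOf _
  haveI := h𝔭.1.1
  letI : Algebra Γ(X, V) (X.presheaf.stalk y) := (X.presheaf.germ V y hyV).hom.toAlgebra
  haveI hlocX : IsLocalization.AtPrime (X.presheaf.stalk y) q.asIdeal := hV.isLocalization_stalk ⟨y, hyV⟩
  letI : Algebra Γ(S, U) (S.presheaf.stalk (f y)) := (S.presheaf.germ U (f y) hyU).hom.toAlgebra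
  haveI hlocS : IsLocalization.AtPrime (S.presheaf.stalk (f y)) (hU.primeIdealOf ⟨f y, hyU⟩).asIdeal :=
    hU.isLocalization_stalk ⟨f y, hyU⟩
  let q₀' : PrimeSpectrum Γ(X, V) := ⟨𝔭.under Γ(X, V), inferInstance⟩
  obtain ⟨x, hx⟩ : ∃ x, hV.fromSpec q₀' = x := ⟨_, rfl⟩
  have hxV : x ∈ V := hV.range_fromSpec.le ⟨q₀', hx⟩
  set q₀ := hV.primeIdealOf ⟨x, hxV⟩ with hq₀
  have hq₀x : hV.fromSpec q₀ = x := hV.fromSpec_primeIdealOf _
  have e₀ : q₀ = q₀' := hV.fromSpec.isOpenEmbedding.injective (hq₀x.trans hx.symm)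
  have hP : q₀.asIdeal = 𝔭.under Γ(X, V) := congrArg PrimeSpectrum.asIdeal e₀
  have hle : q₀.asIdeal ≤ q.asIdeal := by
    rw [hP]
    exact (Ideal.comap_mono (IsLocalRing.le_maximalIdeal (Ideal.IsPrime.ne_top inferInstance))).trans_eq
      (IsLocalization.AtPrime.under_maximalIdeal (X.presheaf.stalk y) q.asIdeal)
  have hxy : x ⤳ y := by
    rw [← hqy, ← hq₀x]
    exact (fromSpec_specializes_iff hV q₀ q).2 hle
  have hxmax : FibDim.IsMax' x := fun z hz => by
    have hzV : z ∈ V := hz.mem_open V.2 hxV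
    set t := hV.primeIdealOf ⟨z, hzV⟩ with ht
    have h1 : t.asIdeal ≤ q₀.asIdeal := (fromSpec_specializes_iff hV _ q₀).1 (by
      rw [hV.fromSpec_primeIdealOf, hq₀x]; exact hz)
    have hdt : Disjoint (q.asIdeal.primeCompl : Set Γ(X, V)) t.asIdeal :=
      Set.disjoint_left.2 fun a ha hat => ha (hle (h1 hat))
    haveI := IsLocalization.isPrime_of_isPrime_disjoint q.asIdeal.primeCompl (X.presheaf.stalk y) _ t.2 hdt
    have hle' : t.asIdeal.map (algebraMap Γ(X, V) (X.presheaf.stalk y)) ≤ 𝔭 :=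
      Ideal.map_le_iff_le_comap.2 (h1.trans hP.le)
    have h2 : t = q₀ := PrimeSpectrum.ext (le_antisymm h1 (by
      rw [hP]
      exact (Ideal.comap_mono (h𝔭.2 ⟨inferInstance, bot_le⟩ hle')).trans_eq
        (IsLocalization.under_map_of_isPrime_disjoint q.asIdeal.primeCompl (X.presheaf.stalk y) t.2 hdt)))
    have := congrArg hV.fromSpec h2
    rwa [ht, hV.fromSpec_primeIdealOf, hq₀x] at this
  have := map_isPrime hle
  have : Algebra.FiniteType Γ(S, U) (Γ(X, V) ⧸ q₀.asIdeal) :=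
    Algebra.FiniteType.of_surjective (Ideal.Quotient.mkₐ Γ(S, U) q₀.asIdeal) Ideal.Quotient.mk_surjective
  have : Algebra.FiniteType (Γ(S, U) ⧸ q₀.asIdeal.under Γ(S, U)) (Γ(X, V) ⧸ q₀.asIdeal) :=
    Algebra.FiniteType.of_restrictScalars_finiteType Γ(S, U) _ _
  have hinj : FaithfulSMul (Γ(S, U) ⧸ q₀.asIdeal.under Γ(S, U)) (Γ(X, V) ⧸ q₀.asIdeal) :=
    (faithfulSMul_iff_algebraMap_injective _ _).2 (Ideal.quotientMap_injective' le_rfl)
  set q₁ := q.asIdeal.map (Ideal.Quotient.mk q₀.asIdeal) with hq₁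
  let p : PrimeSpectrum Γ(S, U) := PrimeSpectrum.comap (algebraMap Γ(S, U) Γ(X, V)) q
  have hp : p = hU.primeIdealOf ⟨f y, hyU⟩ := by
    apply hU.fromSpec.isOpenEmbedding.injective
    rw [hU.fromSpec_primeIdealOf]
    show _ = f y
    refine Eq.trans ?_ (congrArg f hqy)
    refine Eq.trans ?_ (Scheme.Hom.comp_apply hV.fromSpec f _)
    erw [← IsAffineOpen.SpecMap_appLE_fromSpec f hU hV hVU, Scheme.Hom.comp_apply]
  have hpq₀ : q₀.asIdeal.under Γ(S, U) ≤ p.asIdeal := Ideal.comap_mono hle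
  have := map_isPrime hpq₀
  have hp₁c : (q₁.under (Γ(S, U) ⧸ q₀.asIdeal.under Γ(S, U))).comap
      (Ideal.Quotient.mk (q₀.asIdeal.under Γ(S, U))) = p.asIdeal := by
    show _ = q.asIdeal.comap (algebraMap Γ(S, U) Γ(X, V))
    rw [← comap_map_mk hle, Ideal.comap_comap, Ideal.comap_comap]
    rfl
  have hpy : hU.fromSpec p = f y := by rw [hp, hU.fromSpec_primeIdealOf]
  obtain ⟨hq', hp', b, e, h1, h2, hb, he, hsum⟩ := GeomUnib.height_formula (R := Γ(S, U) ⧸ q₀.asIdeal.under Γ(S, U)) q₁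
    (GeomUnib.isUniversallyCatenary_localization hU p (by rw [hpy]; exact hcat) _ _ hp₁c)
  let _ := (f.residueFieldMap x).hom.toAlgebra
  obtain ⟨ex, hex, hex'⟩ := exists_trdeg_fibre f (f x) (f.asFiber x) x (f.fiberι_asFiber x)
  rw [← EquidimFlat.fdim_eq_fibre_closure] at hex'
  -- the generic transcendence degree
  let _ := (f.residueFieldMap x).hom.toAlgebra
  have hxe : ex = e := by
    have h := trdeg_eq_of_fractions (R := Γ(S, U) ⧸ q₀.asIdeal.under Γ(S, U)) (D := Γ(X, V) ⧸ q₀.asIdeal)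
      (Ideal.Quotient.lift _ (evalRes (X := S) (V := U) (hVU hxV)) fun a ha => by
        refine (f.residueFieldMap x).hom.injective ?_
        rw [map_zero, ← evalRes_comm f hVU hxV, evalRes_eq_zero_iff hV hxV]
        exact ha)
      (Ideal.Quotient.lift _ (evalRes hxV) fun a ha => (evalRes_eq_zero_iff hV hxV a).2 ha)
      ((injective_iff_map_eq_zero _).2 fun a ha => by
        obtain ⟨a, rfl⟩ := Ideal.Quotient.mk_surjective a
        exact Ideal.Quotient.eq_zero_iff_mem.2 ((evalRes_eq_zero_iff hV hxV a).1 ha))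
      (fun a => by
        obtain ⟨a, rfl⟩ := Ideal.Quotient.mk_surjective a
        exact evalRes_comm f hVU hxV a)
      (fun z => by
        obtain ⟨a, b, rfl⟩ := evalRes_fractions hU (hVU hxV) z
        exact ⟨Ideal.Quotient.mk _ a, Ideal.Quotient.mk _ b, rfl⟩)
      (fun z => by
        obtain ⟨a, b, rfl⟩ := evalRes_fractions hV hxV z
        exact ⟨Ideal.Quotient.mk _ a, Ideal.Quotient.mk _ b, rfl⟩)
    exact_mod_cast hex.symm.trans (h.trans he)
  have hyb : n = b := by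
    let _ := (f.residueFieldMap y).hom.toAlgebra
    let p₁ := q₁.under (Γ(S, U) ⧸ q₀.asIdeal.under Γ(S, U))
    let rB : Γ(X, V) ⧸ q₀.asIdeal →+* X.residueField y :=
      Ideal.Quotient.lift _ (evalRes hyV) fun a ha => (evalRes_eq_zero_iff hV hyV a).2 (hle ha)
    have hker : ∀ a, rB a = 0 ↔ a ∈ q₁ := fun a => by
      obtain ⟨a, rfl⟩ := Ideal.Quotient.mk_surjective a
      rw [show rB (Ideal.Quotient.mk _ a) = evalRes hyV a from rfl, evalRes_eq_zero_iff hV hyV, ← hq,
        ← Ideal.mem_comap, comap_map_mk hle]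
    let rA : Γ(S, U) ⧸ q₀.asIdeal.under Γ(S, U) →+* S.residueField (f y) :=
      Ideal.Quotient.lift _ (evalRes (X := S) (V := U) (hVU hyV)) fun a ha => by
        refine (f.residueFieldMap y).hom.injective ?_
        rw [map_zero, ← evalRes_comm f hVU hyV, evalRes_eq_zero_iff hV hyV]
        exact hle ha
    have hcomm : ∀ a, rB (algebraMap _ _ a) = (f.residueFieldMap y).hom (rA a) := fun a => by
      obtain ⟨a, rfl⟩ := Ideal.Quotient.mk_surjective a
      exact evalRes_comm f hVU hyV a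
    have : FaithfulSMul ((Γ(S, U) ⧸ q₀.asIdeal.under Γ(S, U)) ⧸ p₁) ((Γ(X, V) ⧸ q₀.asIdeal) ⧸ q₁) :=
      (faithfulSMul_iff_algebraMap_injective _ _).2 (Ideal.quotientMap_injective' le_rfl)
    have h := trdeg_eq_of_fractions (R := (Γ(S, U) ⧸ q₀.asIdeal.under Γ(S, U)) ⧸ p₁) (D := (Γ(X, V) ⧸ q₀.asIdeal) ⧸ q₁)
      (Ideal.Quotient.lift _ rA fun a ha => by
        refine (f.residueFieldMap y).hom.injective ?_
        rw [map_zero, ← hcomm, hker]
        exact ha)
      (Ideal.Quotient.lift _ rB fun a ha => (hker a).2 ha)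
      ((injective_iff_map_eq_zero _).2 fun a ha => by
        obtain ⟨a, rfl⟩ := Ideal.Quotient.mk_surjective a
        exact Ideal.Quotient.eq_zero_iff_mem.2 ((hker a).1 ha))
      (fun a => by
        obtain ⟨a, rfl⟩ := Ideal.Quotient.mk_surjective a
        exact hcomm a)
      (fun z => by
        obtain ⟨a, b, rfl⟩ := evalRes_fractions hU (hVU hyV) z
        exact ⟨Ideal.Quotient.mk _ (Ideal.Quotient.mk _ a), Ideal.Quotient.mk _ (Ideal.Quotient.mk _ b), rfl⟩)
      (fun z => by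
        obtain ⟨a, b, rfl⟩ := evalRes_fractions hV hyV z
        exact ⟨Ideal.Quotient.mk _ (Ideal.Quotient.mk _ a), Ideal.Quotient.mk _ (Ideal.Quotient.mk _ b), rfl⟩)
    exact_mod_cast hey.symm.trans (h.trans hb)
  -- compare heights
  have hp₁ : q₁.under (Γ(S, U) ⧸ q₀.asIdeal.under Γ(S, U)) = p.asIdeal.map (Ideal.Quotient.mk (q₀.asIdeal.under Γ(S, U))) := by
    rw [← hp₁c]
    exact (Ideal.map_comap_of_surjective _ Ideal.Quotient.mk_surjective _).symm
  refine ⟨x, ex, hxmax, hxy, hex', ?_⟩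
  have hqd : ringKrullDim (X.presheaf.stalk y ⧸ 𝔭) = (hq' : ℕ∞) := by
    rw [← height_map_eq_dim_quotient q.asIdeal (X.presheaf.stalk y) 𝔭 q₀.asIdeal hP.symm, ← h1]
  haveI : IsLocalization.AtPrime (S.presheaf.stalk (f y)) p.asIdeal := by rw [hp]; exact hlocS
  have hp0 : (𝔭.comap (f.stalkMap y).hom).under Γ(S, U) = q₀.asIdeal.under Γ(S, U) := by
    rw [hP]
    show (𝔭.comap (f.stalkMap y).hom).comap (S.presheaf.germ U (f y) hyU).hom =
      (𝔭.comap (X.presheaf.germ V y hyV).hom).comap (f.appLE U V hVU).hom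
    rw [Ideal.comap_comap, Ideal.comap_comap, ← CommRingCat.hom_comp, ← CommRingCat.hom_comp,
      Scheme.Hom.germ_stalkMap, Scheme.Hom.appLE, Category.assoc, TopCat.Presheaf.germ_res]
  have hpd : ringKrullDim (S.presheaf.stalk (f y) ⧸ 𝔭.comap (f.stalkMap y).hom) = (hp' : ℕ∞) := by
    rw [← height_map_eq_dim_quotient p.asIdeal (S.presheaf.stalk (f y)) _ _ hp0, ← h2, hp₁]
  rw [hqd, hpd]
  have : hq' + n = hp' + ex := by omega
  exact_mod_cast this

end Groth.Agent.DimFormulaIrr
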