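import Groth.Agent.DimFormulaIrr.Component
import Groth.Agent.GeomUnib.EquidimLocal
import Groth.Agent.GeomUnib.AffineSpaceChart
import Groth.Agent.LocalDim.Closure

/-! The dimension formula at points of equidimensionality. -/

universe u

open CategoryTheory CategoryTheory.Limits AlgebraicGeometry TopologicalSpace

namespace Groth.Agent.DimFormulaIrr

variable {X Y : Scheme.{u}} [IsLocallyNoetherian Y] (f : X ⟶ Y) [LocallyOfFiniteType f] (x : X)
  (h : EGA43.IsEquidimAt f x) (hcat : CAlg.IsUniversallyCatenary (Y.presheaf.stalk (f x)))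

include h hcat

theorem exists_component_equation :
    ∃ n e : ℕ, (letI := (f.residueFieldMap x).hom.toAlgebra
      Algebra.trdeg (Y.residueField (f x)) (X.residueField x)) = n ∧ FlatMor.fibreDimAt f x = e ∧
      ringKrullDim ((f.fiber (f x)).presheaf.stalk (f.asFiber x)) + n = e ∧
      ∀ 𝔭 ∈ minimalPrimes (X.presheaf.stalk x),
        𝔭.comap (f.stalkMap x).hom ∈ minimalPrimes (Y.presheaf.stalk (f x)) ∧
        ringKrullDim (X.presheaf.stalk x ⧸ 𝔭) + n =
          ringKrullDim (Y.presheaf.stalk (f x) ⧸ 𝔭.comap (f.stalkMap x).hom) + e := by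
  obtain ⟨e, U, hxU, he, hz, -⟩ := GeomUnib.exists_equidim_data' f h
  obtain ⟨n, hn, hn'⟩ := exists_trdeg_fibre f (f x) (f.asFiber x) x (f.fiberι_asFiber x)
  haveI : LocallyOfFiniteType (f.fiberToSpecResidueField (f x)) :=
    MorphismProperty.of_isPullback (P := @LocallyOfFiniteType) (IsPullback.of_hasPullback f (Y.fromSpecResidueField (f x))) inferInstance
  have hfib : ringKrullDim ((f.fiber (f x)).presheaf.stalk (f.asFiber x)) + n = (e : WithBot ℕ∞) := by
    rw [← hn', ← LocalDim.localDim_eq_stalk_add_closure (k := Y.residueField (f x)) (f.fiberToSpecResidueField (f x)) (f.asFiber x)]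
    exact he
  refine ⟨n, e, hn, he, hfib, fun 𝔭 h𝔭 => ⟨?_, ?_⟩⟩
  · haveI := h𝔭.1.1
    let P : PrimeSpectrum (X.presheaf.stalk x) := ⟨𝔭, inferInstance⟩
    let z := X.fromSpecStalk x P
    let Q : PrimeSpectrum (Y.presheaf.stalk (f x)) := PrimeSpectrum.comap (f.stalkMap x).hom P
    have hfz : Y.fromSpecStalk (f x) Q = f z := by
      show (Spec.map (f.stalkMap x) ≫ Y.fromSpecStalk (f x)) P = (X.fromSpecStalk x ≫ f) P
      rw [Scheme.SpecMap_stalkMap_fromSpecStalk]
    obtain ⟨-, hmax, -⟩ := hz z ((show z ⤳ x from Scheme.range_fromSpecStalk.le ⟨P, rfl⟩).mem_open U.2 hxU)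
      (GeomUnib.maximal_fromSpecStalk x h𝔭)
    refine ⟨⟨inferInstance, bot_le⟩, fun J hJ hle => ?_⟩
    haveI := hJ.1
    let J' : PrimeSpectrum (Y.presheaf.stalk (f x)) := ⟨J, inferInstance⟩
    have hJQ : Y.fromSpecStalk (f x) J' ⤳ f z := hfz ▸
      ((PrimeSpectrum.le_iff_specializes J' Q).1 hle).map (Y.fromSpecStalk (f x)).continuous
    have heq : J' = Q := (Y.fromSpecStalk (f x)).isEmbedding.injective
      (((hJQ.antisymm (hmax _ hJQ))).eq.trans hfz.symm)
    exact (congrArg PrimeSpectrum.asIdeal heq).ge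
  · obtain ⟨ξ, E, hξ, hξx, hE, heq⟩ := stalk_component_formula f x n hcat hn 𝔭 h𝔭
    obtain ⟨h1, -, -⟩ := hz ξ (hξx.mem_open U.2 hxU) (fun b hb => (hξ b hb).symm ▸ specializes_rfl)
    rw [hE] at h1
    rw [heq, Nat.cast_inj.mp h1]

theorem equidim_stalk (hY : EGA4.IsEquidim (Y.presheaf.stalk (f x))) :
    EGA4.IsEquidim (X.presheaf.stalk x) ∧
      ringKrullDim (X.presheaf.stalk x) =
        ringKrullDim (Y.presheaf.stalk (f x)) + ringKrullDim ((f.fiber (f x)).presheaf.stalk (f.asFiber x)) := by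
  obtain ⟨n, e, -, -, hfib, hall⟩ := exists_component_equation f x h hcat
  have hD : ∀ 𝔭 ∈ minimalPrimes (X.presheaf.stalk x), ringKrullDim (X.presheaf.stalk x ⧸ 𝔭) =
      ringKrullDim (Y.presheaf.stalk (f x)) + ringKrullDim ((f.fiber (f x)).presheaf.stalk (f.asFiber x)) := fun 𝔭 h𝔭 => by
    obtain ⟨hmin, heq⟩ := hall 𝔭 h𝔭
    rw [hY _ hmin, ← hfib, ← add_assoc] at heq
    exact add_natCast_cancel heq
  have hdim := GeomUnib.ringKrullDim_eq_of_minimalPrimes hD
  exact ⟨fun 𝔭 h𝔭 => (hD 𝔭 h𝔭).trans hdim.symm, hdim⟩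

end Groth.Agent.DimFormulaIrr
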